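import Groth.Agent.Lib.ASBun21.Horrocks
import Groth.Agent.Lib.CI20.Seq
import Groth.Agent.Lib.CI20.Hypersurface

import Groth.Agent.Lib.CMReg.StructureRegular
import Groth.Agent.Lib.OX.TensorInjective
import Groth.Agent.Lib.NegTwist.H0

/-!
# Sections of twists of a bundle extending a twisted ideal by the structure sheaf
-/

set_option autoImplicit false
set_option maxHeartbeats 1000000
set_option backward.isDefEq.respectTransparency false

universe u

open CategoryTheory CategoryTheory.Limits AlgebraicGeometry TopologicalSpace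
open GrothLib.CMReg (Ft)
open GrothLib.Cohom (hhMap)

noncomputable section

namespace GrothLib.SerreBdl12

variable {k : Type u} [Field k] {n : ℕ}

theorem subsingleton_H0_twist_iff (hn : 1 ≤ n) (d : ℤ) :
    Subsingleton (Coh.HH (CohB1.ProjSpace n k) (Twist.twistProjSpace n k d) 0) ↔ d < 0 := by
  refine ⟨fun h => ?_, fun h => ProjCohom.subsingleton_HH (fun _ => by omega) (fun _ => by omega)⟩
  by_contra hd
  obtain ⟨_, hr⟩ := CI20.finrank_H0 (k := k) n hn d
  rw [Module.finrank_zero_of_subsingleton] at hr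
  have := Nat.choose_pos (show n ≤ (d + (n : ℤ)).toNat by omega)
  omega

/-- Some map `O(d) ⟶ O(d + 1)` is injective. -/
theorem exists_mono_raise (hn : 1 ≤ n) (d : ℤ) :
    ∃ μ : Twist.twistProjSpace n k d ⟶ Twist.twistProjSpace n k (d + 1), Mono μ := by
  haveI : IsIntegral (CohB1.ProjSpace n k) := ProjDim.isIntegral_proj k n
  have hne : Nontrivial (Coh.HH (CohB1.ProjSpace n k) (Twist.twistProjSpace n k 1) 0) := by
    rw [← not_subsingleton_iff_nontrivial, subsingleton_H0_twist_iff hn]
    omega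
  obtain ⟨s, hs⟩ := Euler.exists_ne_zero_section hne
  haveI := Euler.mono_homOfSection (CMReg.isInvertible_twist (n := n) (k := k) 1) hs
  haveI := CurveMult.isEquivalence_tF (ASBun21.Horrocks.invIso (n := n) (k := k) d (-d) (by omega))
    (ASBun21.Horrocks.invIso (-d) d (by omega))
  obtain ⟨a⟩ := CMReg.nonempty_twist_add (n := n) (k := k) (show (1 : ℤ) + d = d + 1 by ring)
  exact ⟨(OX.tensorUnitLeftIso (Twist.twistProjSpace n k d)).inv ≫
    ((DCoh.tensorBi (X := CohB1.ProjSpace n k)).flip.obj (Twist.twistProjSpace n k d)).map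
      (FinCov.homOfSection s) ≫ a.hom, inferInstance⟩

/-- Tensoring an ideal-like submodule of `O` with a monomorphism. -/
theorem mono_tensor_left {X : Scheme.{u}} {J A B : X.Modules} (ι : J ⟶ Coh.structureModule X) (μ : A ⟶ B) [Mono μ]
    (hA : Mono (((DCoh.tensorBi (X := X)).map ι).app A)) :
    Mono (((DCoh.tensorBi (X := X)).obj J).map μ) := by
  haveI : Mono (((DCoh.tensorBi (X := X)).obj (Coh.structureModule X)).map μ) := by
    haveI : Mono ((OX.tensorUnitNatIso (X := X)).hom.app A ≫ μ) := mono_comp _ _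
    exact mono_of_mono_fac ((OX.tensorUnitNatIso (X := X)).hom.naturality μ)
  haveI := hA
  haveI : Mono (((DCoh.tensorBi (X := X)).map ι).app A ≫
      ((DCoh.tensorBi (X := X)).obj (Coh.structureModule X)).map μ) := mono_comp _ _
  exact mono_of_mono_fac (((DCoh.tensorBi (X := X)).map ι).naturality μ)

/-- No sections of a twist of an ideal: none of the smaller twists. -/
theorem subsingleton_ideal_sub (hn : 1 ≤ n) (I : (CohB1.ProjSpace n k).IdealSheafData) (d : ℤ)
    (h : Subsingleton (Coh.HH (CohB1.ProjSpace n k) (Ft (ClSub.idealMod I) (d + 1)) 0)) :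
    Subsingleton (Coh.HH (CohB1.ProjSpace n k) (Ft (ClSub.idealMod I) d) 0) := by
  obtain ⟨μ, hμ⟩ := exists_mono_raise (k := k) hn d
  haveI : IsIntegral (CohB1.ProjSpace n k) := ProjDim.isIntegral_proj k n
  haveI := CurveMult.isEquivalence_tF (ASBun21.Horrocks.invIso (n := n) (k := k) d (-d) (by omega))
    (ASBun21.Horrocks.invIso (-d) d (by omega))
  haveI : Mono (((DCoh.tensorBi (X := CohB1.ProjSpace n k)).obj (ClSub.idealMod I)).map μ) :=
    mono_tensor_left (ClSub.idealModι I) μ
      (inferInstanceAs (Mono (((DCoh.tensorBi (X := CohB1.ProjSpace n k)).flip.obj (Twist.twistProjSpace n k d)).map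
        (kernel.ι (ClSub.toSubscheme I)))))
  haveI : Subsingleton (Coh.HH (CohB1.ProjSpace n k)
      (((DCoh.tensorBi (X := CohB1.ProjSpace n k)).obj (ClSub.idealMod I)).obj (Twist.twistProjSpace n k (d + 1))) 0) := h
  exact (NegTwist.injective_hhMap_zero k
    (((DCoh.tensorBi (X := CohB1.ProjSpace n k)).obj (ClSub.idealMod I)).map μ)).subsingleton

theorem subsingleton_ideal_le (hn : 1 ≤ n) (I : (CohB1.ProjSpace n k).IdealSheafData) {d e : ℤ} (hde : d ≤ e)
    (h : Subsingleton (Coh.HH (CohB1.ProjSpace n k) (Ft (ClSub.idealMod I) e) 0)) :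
    Subsingleton (Coh.HH (CohB1.ProjSpace n k) (Ft (ClSub.idealMod I) d) 0) := by
  induction d, hde using Int.leInductionDown with
  | base => exact h
  | pred d _ ih => exact subsingleton_ideal_sub hn I (d - 1) (by rwa [sub_add_cancel])

/-- A tensor of a trivial module. -/
theorem nonempty_tensor_of_trivial {X : Scheme.{u}} {A : X.Modules} (L : X.Modules) (e : A ≅ Coh.structureModule X) :
    Nonempty (CohB1.tensorMod A L ≅ L) :=
  ⟨Ample.LineData.tensorModMapIso e (Iso.refl L) ≪≫ OX.tensorUnitLeftIso L⟩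

/-- Sections of a twist of `E` vanish iff those of the two pieces do. -/
theorem subsingleton_H0_iff (hn : 2 ≤ n) (I : (CohB1.ProjSpace n k).IdealSheafData) (c t e : ℤ) (he : c + t = e)
    (S : ShortComplex (CohB1.ProjSpace n k).Modules) (hS : S.ShortExact)
    (e₁ : S.X₁ ≅ Coh.structureModule (CohB1.ProjSpace n k))
    (e₃ : S.X₃ ≅ CohB1.tensorMod (ClSub.idealMod I) (Twist.twistProjSpace n k c)) :
    Subsingleton (Coh.HH (CohB1.ProjSpace n k) (CohB1.tensorMod S.X₂ (Twist.twistProjSpace n k t)) 0) ↔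
      (t < 0 ∧ ∀ d, d ≤ e → Subsingleton (Coh.HH (CohB1.ProjSpace n k) (Ft (ClSub.idealMod I) d) 0)) := by
  let T := CMReg.ftFun (n := n) (k := k) t
  have hT : (S.map T).ShortExact := OX.tensor_map_shortExact
    (OX.flat_of_isFinLocFree (ASBun21.Horrocks.locFree_twist t)) hS
  obtain ⟨a₁⟩ : Nonempty ((S.map T).X₁ ≅ Twist.twistProjSpace n k t) := nonempty_tensor_of_trivial _ e₁
  obtain ⟨g⟩ := CMReg.nonempty_Ft_Ft (ClSub.idealMod I) c t e he
  let a₃ : (S.map T).X₃ ≅ Ft (ClSub.idealMod I) e := T.mapIso e₃ ≪≫ g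
  constructor
  · intro h2
    haveI : Subsingleton (Coh.HH (CohB1.ProjSpace n k) (S.map T).X₂ 0) := h2
    haveI := hT.mono_f
    have h1 := (NegTwist.injective_hhMap_zero k (S.map T).f).subsingleton
    have ht := (subsingleton_H0_twist_iff (by omega) t).1 (CMReg.subsingleton_of_iso a₁ h1)
    refine ⟨ht, fun d hd => subsingleton_ideal_le (by omega) I hd (CMReg.subsingleton_of_iso a₃
      (CMReg.subsingleton_X₃ hT h2 (CMReg.subsingleton_of_iso a₁.symm ?_)))⟩
    exact ProjCohom.subsingleton_HH (fun _ => by omega) (fun _ => by omega)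
  · rintro ⟨ht, h3⟩
    exact CMReg.subsingleton_X₂ hT (CMReg.subsingleton_of_iso a₁.symm ((subsingleton_H0_twist_iff (by omega) t).2 ht))
      (CMReg.subsingleton_of_iso a₃.symm (h3 e le_rfl))

end GrothLib.SerreBdl12
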